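import Cfsg.Agent.OddTypeOne.Global
import Cfsg.Agent.OddCharTwelve.Main

/-!
Discharges the hypothesis `Tau2Empty` of `Cfsg.Agent.OddTypeOne` using Peterfalvi (12.16).
-/

set_option autoImplicit false

namespace Cfsg.Agent.OddTypeOne

universe u

/-- `κ(M) = ∅` forces `τ₂(M) = ∅` in a minimal simple group of odd order. -/
theorem tau2Empty {G : Type u} [Group G] [Finite G] (hG : Cfsg.IsMinSimpleOddOrder G) :
    Tau2Empty G :=
  fun _ hM hκ => Cfsg.Agent.OddCharTwelve.tau2_eq_empty hG hM hκ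

end Cfsg.Agent.OddTypeOne
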