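import Cfsg.Agent.OddLocal.AttachedSets
import Cfsg.Agent.OddLocal.NonTI
import Cfsg.Agent.Core.PCore
import Cfsg.Agent.S1355
import Cfsg.Agent.S1439

/-!
# Maximal subgroups with `κ(M) = ∅`, assuming `τ₂(M) = ∅` for them

With the hypothesis `Tau2Empty` (Peterfalvi 12.7) every maximal subgroup with `κ(M) = ∅` is a
Frobenius group with kernel `M_F = M_σ`; this gives the characterisation of Type I and the missing
equality of BG 15.7.
-/

set_option autoImplicit false
set_option linter.unusedSectionVars false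

namespace Cfsg.Agent.OddTypeOne

open Subgroup Cfsg
open Cfsg.Agent.OddLocal
open scoped commutatorElement

universe u

/-- The hypothesis: `κ(M) = ∅` forces `τ₂(M) = ∅`. -/
def Tau2Empty (G : Type u) [Group G] : Prop :=
  ∀ M : Subgroup G, IsCoatom M → kappa M = ∅ → tau2 M = ∅

variable {G : Type u} [Group G] [Finite G] {M K U D : Subgroup G}

theorem kappa_eq_empty (h : IsPiHallOf (kappa M) K M) (hK : K = ⊥) : kappa M = ∅ := by
  refine Set.eq_empty_iff_forall_notMem.2 fun r hr => h.2.2 r hr.1 hr ?_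
  rw [hK, relIndex_bot_left]
  exact hr.2.1

theorem eq_bot_of_kappa_empty (h : IsPiHallOf (kappa M) K M) (hκ : kappa M = ∅) : K = ⊥ := by
  by_contra hne
  obtain ⟨r, hr, hd⟩ := exists_prime_dvd_of_ne_bot hne
  have := h.2.1 r hr hd
  rw [hκ] at this
  exact this

variable (hT : Tau2Empty G) (hG : IsMinSimpleOddOrder G) (hM : IsCoatom M)

include hG hM

theorem fittingHallOf_eq (h : IsSigmaDecomposition M K U) (hK : K = ⊥) :
    fittingHallOf M = sigmaCore M :=
  by_contra fun hne => (coreData_of_ne hG hM h hne).2.ne_bot hK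

theorem compl_of_bot (h : IsSigmaDecomposition M ⊥ U) : IsComplIn U (sigmaCore M) M := by
  simpa using (sigmaDecomposition_compl hG hM h).1

theorem derived_ne : ⁅M, M⁆ ≠ M :=
  ((Cfsg.Agent.S1355.result hG M hM).2.2.2.1).ne

theorem U_ne_bot (h : IsSigmaDecomposition M ⊥ U) : U ≠ ⊥ := by
  intro hU
  refine derived_ne hG hM (le_antisymm (commutator_le_self M) ?_)
  have := le_sup_of_isComplIn (compl_of_bot hG hM h)
  rw [hU, bot_sup_eq] at this
  exact this.le.trans (sigmaCore_le_derived hG hM)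

/-- An element of the coset of a fixed point free element of a complement is its conjugate. -/
theorem exists_conj_mem (hD : IsComplIn D (sigmaCore M) M)
    (hfree : ∀ d ∈ D, ∀ x ∈ sigmaCore M, x ≠ 1 → Commute d x → d = 1)
    {m : G} (hm : m ∈ M) (hms : m ∉ sigmaCore M) :
    ∃ h ∈ sigmaCore M, h⁻¹ * m * h ∈ D ∧ h⁻¹ * m * h ≠ 1 := by
  obtain ⟨d, hd, b, hb, rfl⟩ := hD.2.2.2 m hm
  have hd1 : d ≠ 1 := fun e => hms (by rw [e, one_mul]; exact hb)
  have hdN := le_normalizer_sigmaCore M (hD.1 hd)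
  have hmem : ∀ h : sigmaCore M, d⁻¹ * (h : G) * d * (h : G)⁻¹ ∈ sigmaCore M := fun h =>
    mul_mem (by simpa using (mem_normalizer_iff.1 (inv_mem hdN) (h : G)).1 h.2) (inv_mem h.2)
  let f : sigmaCore M → sigmaCore M := fun h => ⟨d⁻¹ * (h : G) * d * (h : G)⁻¹, hmem h⟩
  have hinj : Function.Injective f := by
    intro h1 h2 e
    have e' : d⁻¹ * (h1 : G) * d * (h1 : G)⁻¹ = d⁻¹ * (h2 : G) * d * (h2 : G)⁻¹ :=
      congrArg Subtype.val e
    by_contra hne
    have h3 := congrArg (fun t => (h2 : G)⁻¹ * d * t * (h1 : G)) e'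
    simp only [← mul_assoc, mul_inv_cancel_right, inv_mul_cancel_right, mul_inv_cancel,
      inv_mul_cancel, one_mul] at h3
    refine hd1 (hfree d hd ((h2 : G)⁻¹ * h1) (mul_mem (inv_mem h2.2) h1.2)
      (fun h4 => hne (Subtype.ext (inv_mul_eq_one.1 h4).symm)) ?_)
    exact ((mul_assoc _ _ _).symm.trans (by simpa [mul_assoc] using h3.symm) :
      d * ((h2 : G)⁻¹ * h1) = (h2 : G)⁻¹ * h1 * d)
  obtain ⟨h, he⟩ := Finite.surjective_of_injective hinj ⟨b, hb⟩
  have he' : d⁻¹ * (h : G) * d * (h : G)⁻¹ = b := congrArg Subtype.val he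
  have e1 : (h : G)⁻¹ * (d * b) * (h : G) = d := by rw [← he']; group
  exact ⟨h, h.2, by rw [e1]; exact hd, by rwa [e1]⟩

/-- Centralisers in a Frobenius group of elements of the kernel. -/
theorem inf_centralizer_le_kernel (hD : IsComplIn D (sigmaCore M) M)
    (hfree : ∀ d ∈ D, ∀ x ∈ sigmaCore M, x ≠ 1 → Commute d x → d = 1)
    {x : G} (hx : x ∈ sigmaCore M) (hx1 : x ≠ 1) :
    M ⊓ centralizer ({x} : Set G) ≤ sigmaCore M := by
  rintro c ⟨hc, hcx⟩
  by_contra hcs
  obtain ⟨h, hh, hd, hd1⟩ := exists_conj_mem hG hM hD hfree hc hcs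
  refine hd1 (hfree _ hd (h⁻¹ * x * h) (mul_mem (mul_mem (inv_mem hh) hx) hh) ?_ ?_)
  · intro e
    exact hx1 (by simpa using (conj_eq_one_iff (a := h⁻¹) (b := x)).1 (by simpa using e))
  · have h1 : Commute c x := mem_centralizer_singleton_iff.1 hcx
    calc h⁻¹ * c * h * (h⁻¹ * x * h) = h⁻¹ * (c * x) * h := by group
      _ = h⁻¹ * (x * c) * h := by rw [h1.eq]
      _ = h⁻¹ * x * h * (h⁻¹ * c * h) := by group

include hT

theorem free_of_bot (h : IsSigmaDecomposition M ⊥ U) :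
    ∀ e ∈ U, ∀ x ∈ sigmaCore M, x ≠ 1 → Commute e x → e = 1 := by
  intro e he x hx hx1 hex
  by_contra he1
  obtain ⟨r, hr, hd⟩ := Nat.exists_prime_and_dvd (mt orderOf_eq_one_iff.1 he1)
  have h2 := tau2_of_fixed_U hG hM h he hx hx1 hex hr hd
  rw [hT M hM (kappa_eq_empty h.hall rfl)] at h2
  exact h2

/-- With `κ(M) = ∅` the group `M` is Frobenius with kernel `M_σ`. -/
theorem inf_centralizer_le (hκ : kappa M = ∅) {x : G} (hx : x ∈ sigmaCore M) (hx1 : x ≠ 1) :
    M ⊓ centralizer ({x} : Set G) ≤ sigmaCore M := by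
  obtain ⟨K, U, h⟩ := exists_decomposition hG hM
  obtain rfl := eq_bot_of_kappa_empty h.hall hκ
  exact inf_centralizer_le_kernel hG hM (compl_of_bot hG hM h) (free_of_bot hT hG hM h) hx hx1

theorem typeF_of_bot (h : IsSigmaDecomposition M ⊥ U) : IsOfTypeF ↥M := by
  have he := fittingHallOf_eq hG hM h rfl
  have hD := compl_of_bot hG hM h
  have hU1 := U_ne_bot hG hM h
  have hfree := free_of_bot hT hG hM h
  have hmemF : ∀ x : M, x ∈ fittingHall M ↔ (x : G) ∈ sigmaCore M := fun x => by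
    rw [← he]
    exact ⟨fun hx => mem_map_of_mem _ hx, fun ⟨y, hy, e⟩ => (Subtype.ext e : y = x) ▸ hy⟩
  refine ⟨isSolvable_coatom hG hM, hG.1.of_dvd_nat (card_subgroup_dvd_card M), fun e => ?_,
    fun e => hU1 ?_, U.subgroupOf M, fun e => hU1 ?_, ?_, ⟨⊥, bot_le, ?_, inferInstance, ?_⟩,
    U.subgroupOf M, le_rfl, rfl, fun u hu hu1 x hx hc => ?_⟩
  · exact fittingHallOf_ne_bot hG hM (by rw [fittingHallOf, e, Subgroup.map_bot])
  · refine eq_bot_iff.2 (le_trans (le_inf le_rfl ?_) hD.2.2.1.le)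
    intro x hx
    exact (hmemF ⟨x, hD.1 hx⟩).1 (e ▸ mem_top _)
  · exact eq_bot_iff.2 fun x hx => by
      have : (⟨x, hD.1 hx⟩ : M) ∈ U.subgroupOf M := hx
      rw [e, mem_bot] at this
      exact mem_bot.2 (congrArg Subtype.val this)
  · refine isComplement'_of_disjoint_and_mul_eq_univ ?_ ?_
    · rw [disjoint_iff, eq_bot_iff]
      intro x hx
      have : (x : G) ∈ U ⊓ sigmaCore M :=
        mem_inf.2 ⟨(mem_inf.1 hx).2, (hmemF x).1 (mem_inf.1 hx).1⟩
      rw [hD.2.2.1, mem_bot] at this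
      exact mem_bot.2 (Subtype.ext this)
    · refine Set.eq_univ_of_forall fun x => ?_
      obtain ⟨a, ha, b, hb, e⟩ := (isComplIn_symm hD).2.2.2 x x.2
      exact ⟨⟨a, sigmaCore_le M ha⟩, (hmemF _).2 ha, ⟨b, hD.1 hb⟩, hb, Subtype.ext e.symm⟩
  · rw [normalizer_eq_top_iff.mpr inferInstance]
    exact le_top
  · intro x hx hx1 c hc
    have hc2 : Commute (c : G) (x : G) :=
      congrArg Subtype.val (mem_centralizer_singleton_iff.1 hc.2)
    exact mem_bot.2 (Subtype.ext (hfree c hc.1 x ((hmemF x).1 hx)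
      (fun e => hx1 (Subtype.ext e)) hc2))
  · refine Subtype.ext ?_
    by_contra hx1
    exact hu1 (Subtype.ext (hfree u hu x ((hmemF x).1 hx) hx1 (congrArg Subtype.val hc)))

/-- A normal `p'`-subgroup of the Frobenius group `M` lies in the kernel. -/
theorem normal_le_kernel (h : IsSigmaDecomposition M ⊥ U) {p : ℕ} [Fact p.Prime]
    (hp : p ∣ Nat.card (fittingHallOf M)) {N : Subgroup M} [hN : N.Normal]
    (hNp : ¬ p ∣ Nat.card N) : N ≤ fittingHall M := by
  have he := fittingHallOf_eq hG hM h rfl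
  have hmemF : ∀ x : M, x ∈ fittingHall M ↔ (x : G) ∈ sigmaCore M := fun x => by
    rw [← he]
    exact ⟨fun hx => mem_map_of_mem _ hx, fun ⟨y, hy, e⟩ => (Subtype.ext e : y = x) ▸ hy⟩
  intro n hn
  by_contra hnF
  let f : fittingHall M → N := fun x => ⟨n * x * n⁻¹ * (x : M)⁻¹, by
    have := mul_mem hn (hN.conj_mem _ (inv_mem hn) (x : M))
    simpa [mul_assoc] using this⟩
  have hinj : Function.Injective f := by
    intro a b e
    have e' : n * (a : M) * n⁻¹ * (a : M)⁻¹ = n * (b : M) * n⁻¹ * (b : M)⁻¹ :=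
      congrArg Subtype.val e
    by_contra hne
    have hz : ((b : M)⁻¹ * a : M) * n⁻¹ = n⁻¹ * ((b : M)⁻¹ * a) := by
      calc (b : M)⁻¹ * a * n⁻¹ = (b : M)⁻¹ * n⁻¹ * (n * a * n⁻¹ * (a : M)⁻¹) * a := by group
        _ = (b : M)⁻¹ * n⁻¹ * (n * b * n⁻¹ * (b : M)⁻¹) * a := by rw [e']
        _ = n⁻¹ * ((b : M)⁻¹ * a) := by group
    have hab : (b : M)⁻¹ * a ∈ fittingHall M := mul_mem (inv_mem b.2) a.2
    have hab1 : ((b : M)⁻¹ * a : M) ≠ 1 := fun e2 => hne (Subtype.ext (inv_mul_eq_one.1 e2).symm)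
    have h3 := inf_centralizer_le hT hG hM (kappa_eq_empty h.hall rfl) ((hmemF _).1 hab)
      (fun e2 => hab1 (Subtype.ext e2))
      (show ((n⁻¹ : M) : G) ∈ M ⊓ centralizer ({(((b : M)⁻¹ * a : M) : G)} : Set G) from
        ⟨(n⁻¹).2, mem_centralizer_singleton_iff.2 (congrArg Subtype.val hz.symm)⟩)
    exact hnF (inv_mem_iff.1 ((hmemF n⁻¹).2 h3))
  have hrange : ∀ x : fittingHall M, ((f x : N) : M) ∈ fittingHall M := fun x =>
    mul_mem ((fittingHall_normal M).conj_mem _ x.2 n) (inv_mem x.2)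
  let g : fittingHall M → ↥(N ⊓ fittingHall M) := fun x => ⟨(f x : M), (f x).2, hrange x⟩
  have hle := Nat.card_le_card_of_injective g fun a b e =>
    hinj (Subtype.ext (congrArg (fun z : ↥(N ⊓ fittingHall M) => (z : M)) e))
  have heq : N ⊓ fittingHall M = fittingHall M := eq_of_le_of_card_ge inf_le_right hle
  have hd := card_dvd_of_le (inf_eq_right.1 heq)
  rw [← card_fittingHallOf M] at hd
  exact hNp (hp.trans hd)

/-- BG 16.1: Type I means `K = 1` (and then `U ≠ 1`). -/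
theorem typeI_of_bot (h : IsSigmaDecomposition M ⊥ U) : IsOfTypeI M := by
  have he := fittingHallOf_eq hG hM h rfl
  refine ⟨typeF_of_bot hT hG hM h, ?_⟩
  by_cases hTI : IsTISubset (fittingHallOf M : Set G)
  · exact Or.inl hTI
  obtain ⟨g, hg, x, hx, hgx, hx1⟩ : ∃ g : G, g ∉ normalizer (fittingHallOf M : Set G) ∧
      ∃ x ∈ (fittingHallOf M : Set G), g * x * g⁻¹ ∈ (fittingHallOf M : Set G) ∧ x ≠ 1 := by
    simpa [IsTISubset, and_assoc] using hTI
  have hgM : g ∉ M := fun hgM => hg (le_normalizer_fittingHallOf M hgM)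
  have hle : fittingHallOf M ≤ fittingOf M :=
    he ▸ sigmaCore_le_fittingOf hG hM (he ▸ fittingHallOf_nilpotent M)
  have hX : fittingOf M ⊓ (fittingOf M).map (MulAut.conj g).toMonoidHom ≠ ⊥ := fun e => by
    have h2 : g * x * g⁻¹ ∈ fittingOf M ⊓ (fittingOf M).map (MulAut.conj g).toMonoidHom :=
      mem_inf.2 ⟨hle hgx, mem_map_of_mem (MulAut.conj g).toMonoidHom (hle hx)⟩
    rw [e, mem_bot] at h2
    exact hx1 (conj_eq_one_iff.1 h2)
  obtain ⟨p₀, hp₀, -⟩ := exists_prime_dvd_of_ne_bot hX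
  haveI := Fact.mk hp₀
  obtain ⟨-, -, -, hc⟩ := nonTI_structure hG hM h hgM hX
  rcases hc with ⟨-, h1, h2, h3⟩ | ⟨p, hp, hcard, -, -, -, hcyc, hexp⟩ |
      ⟨-, -, -, -, -, -, -, -, hK, -⟩
  · exact Or.inr (Or.inl ⟨h1, h2, h3⟩)
  · haveI := Fact.mk hp
    have hpH : p ∣ Nat.card (fittingHallOf M) := hcard ▸ card_dvd_of_le
      (nonTI_structure hG hM h hgM hX).2.1.1
    refine Or.inr (Or.inr ⟨hexp, p, hp, hpH, ?_⟩)
    have hN : pPrimeCore p M ≤ fittingHall M :=
      normal_le_kernel hT hG hM h hpH (Core.not_dvd_card_pPrimeCore)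
    let e : fittingHall M ≃* fittingHallOf M :=
      (fittingHall M).equivMapOfInjective M.subtype M.subtype_injective
    have hne : ((pPrimeCore p M).subgroupOf (fittingHall M)).map e.toMonoidHom ≤
        pPrimeCore p (fittingHallOf M) := by
      haveI : (((pPrimeCore p M).subgroupOf (fittingHall M)).map e.toMonoidHom).Normal :=
        (inferInstance : ((pPrimeCore p M).subgroupOf (fittingHall M)).Normal).map _ e.surjective
      refine Core.le_pPrimeCore ?_
      rw [card_map_of_injective (f := e.toMonoidHom) e.injective,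
        Coprime.card_subgroupOf hN]
      exact ((Nat.Prime.coprime_iff_not_dvd hp).2 Core.not_dvd_card_pPrimeCore).symm
    haveI := hcyc
    have h1 : IsCyclic ↥(((pPrimeCore p M).subgroupOf (fittingHall M)).map e.toMonoidHom) :=
      Subgroup.isCyclic_of_le hne
    rw [← MulEquiv.isCyclic (equivMapOfInjective _ e.toMonoidHom e.injective),
      MulEquiv.isCyclic (subgroupOfEquivOfLe hN)] at h1
    exact h1
  · exact absurd rfl hK

theorem typeI_iff (h : IsSigmaDecomposition M K U) : IsOfTypeI M ↔ K = ⊥ ∧ U ≠ ⊥ := by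
  constructor
  · intro hI
    obtain rfl := eq_bot_of_typeI hG hM h hI
    exact ⟨rfl, U_ne_bot hG hM h⟩
  · rintro ⟨rfl, -⟩
    exact typeI_of_bot hT hG hM h

theorem typeI_iff_kappa : IsOfTypeI M ↔ kappa M = ∅ := by
  obtain ⟨K, U, h⟩ := exists_decomposition hG hM
  constructor
  · exact fun hI => kappa_eq_empty h.hall (eq_bot_of_typeI hG hM h hI)
  · intro hκ
    obtain rfl := eq_bot_of_kappa_empty h.hall hκ
    exact typeI_of_bot hT hG hM h

/-- Peterfalvi (12.7): a maximal subgroup of Type I is a Frobenius group with kernel `M_F`. -/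
theorem frobenius_of_typeI (hI : IsOfTypeI M) {x : G} (hx : x ∈ fittingHallOf M) (hx1 : x ≠ 1) :
    M ⊓ centralizer ({x} : Set G) ≤ fittingHallOf M := by
  obtain ⟨K, U, h⟩ := exists_decomposition hG hM
  have hK := eq_bot_of_typeI hG hM h hI
  rw [fittingHallOf_eq hG hM h hK] at hx ⊢
  exact inf_centralizer_le hT hG hM (kappa_eq_empty h.hall hK) hx hx1

/-- BG 15.7 with the equality `M' = F(M)`. -/
theorem nonTI_structure_full (hKU : IsSigmaDecomposition M K U) {g : G} (hg : g ∉ M)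
    (hX : fittingOf M ⊓ (fittingOf M).map (MulAut.conj g).toMonoidHom ≠ ⊥) :
    (fittingOf M ⊓ (fittingOf M).map (MulAut.conj g).toMonoidHom ≤ fittingHallOf M ∧
      IsCyclic ↥(fittingOf M ⊓ (fittingOf M).map (MulAut.conj g).toMonoidHom)) ∧
    (⁅M, M⁆ = fittingOf M ∧
      fittingOf M = sigmaCore M ⊔ piCoreOf {q | q.Prime ∧ q ∉ sigma M} (fittingOf M)) ∧
    ((K = ⊥ ∧ IsMulCommutative (fittingHallOf M) ∧ RankLE 2 (fittingHallOf M) ∧
        ¬ RankLE 1 (fittingHallOf M)) ∨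
     (∃ p : ℕ, p.Prime ∧
        Nat.card ↥(fittingOf M ⊓ (fittingOf M).map (MulAut.conj g).toMonoidHom) = p ∧
        p ∈ sigma M ∧ p ∉ beta M ∧
        ¬ IsMulCommutative (pCore p ↥(fittingHallOf M)) ∧
        IsCyclic (pPrimeCore p ↥(fittingHallOf M)) ∧
        ∀ q : ℕ, q.Prime → q ∣ Nat.card (fittingHallOf M) →
          Monoid.exponent (↥M ⧸ fittingHall ↥M) ∣ q - 1) ∨
     (∃ p : ℕ, p.Prime ∧
        Nat.card ↥(fittingOf M ⊓ (fittingOf M).map (MulAut.conj g).toMonoidHom) = p ∧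
        p ∈ sigma M ∧ p ∉ beta M ∧ IsCyclic (pPrimeCore p ↥(fittingHallOf M)) ∧
        Nat.card (pCore p ↥(fittingHallOf M)) = p ^ 3 ∧
        ¬ IsMulCommutative (pCore p ↥(fittingHallOf M)) ∧ K ≠ ⊥ ∧ U = ⊥ ∧
        (fittingHallOf M).relIndex M ∣ p + 1)) := by
  obtain ⟨p₀, hp₀, -⟩ := exists_prime_dvd_of_ne_bot hX
  haveI := Fact.mk hp₀
  obtain ⟨-, h1, ⟨hle, hne, hF⟩, h3⟩ := nonTI_structure hG hM hKU hg hX
  refine ⟨h1, ⟨?_, hF⟩, h3⟩
  by_cases hK : K = ⊥
  · refine le_antisymm hle (hF.le.trans (sup_le (sigmaCore_le_derived hG hM) ?_))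
    have hbot : piCoreOf {q | q.Prime ∧ q ∉ sigma M} (fittingOf M) = ⊥ := by
      by_contra hne'
      obtain ⟨r, hr, hd⟩ := exists_prime_dvd_of_ne_bot hne'
      have h2 := (Cfsg.Agent.S1439.result hG M hM).2.1 r hr hd
      rw [hT M hM (kappa_eq_empty hKU.hall hK)] at h2
      exact h2
    rw [hbot]
    exact bot_le
  · exact hne hK

end Cfsg.Agent.OddTypeOne
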