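import Cfsg.Agent.OddTypeOne.Support
import Cfsg.Agent.OddLocal.CNTheorem
import Cfsg.Agent.S1351
import Cfsg.Agent.S1352
import Cfsg.Agent.S1366
import Cfsg.Agent.S1368
import Cfsg.Agent.S1369
import Cfsg.Agent.S1379
import Cfsg.Agent.S1383

/-!
# The maximal subgroups (BG Theorem I) and the exclusion of the all-Type-I case

When every maximal subgroup is a Frobenius group with kernel `M_σ` the centralisers of the
nonidentity elements are nilpotent, so Feit-Hall-Thompson gives a contradiction.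
-/

set_option autoImplicit false
set_option linter.unusedSectionVars false

namespace Cfsg.Agent.OddTypeOne

open Subgroup Cfsg
open Cfsg.Agent.OddLocal
open scoped commutatorElement

universe u

variable {G : Type u} [Group G] [Finite G] {M : Subgroup G}

variable (hT : Tau2Empty G) (hG : IsMinSimpleOddOrder G)
include hG

theorem typeP_kind (hM : IsCoatom M) {K U : Subgroup G} (h : IsSigmaDecomposition M K U)
    (hK : K ≠ ⊥) : IsOfTypeII M ∨ IsOfTypeIII M ∨ IsOfTypeIV M ∨ IsOfTypeV M := by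
  by_cases hU : U = ⊥
  · by_cases he : fittingHallOf M = sigmaCore M
    · exact Or.inr (Or.inr (Or.inr
        ((Cfsg.Agent.S1383.result hG M hM K U h).2 ⟨hK, hU, he⟩)))
    · rcases (typeIII_or_IV_iff hG hM h).2 ⟨hK, hU, he⟩ with h1 | h1
      · exact Or.inr (Or.inl h1)
      · exact Or.inr (Or.inr (Or.inl h1))
  · exact Or.inl ((typeII_iff hG hM h).2 ⟨hK, hU⟩)

include hT

/-- BG Theorem I. -/
theorem maximal_structure :
    (∀ M : Subgroup G, IsCoatom M → IsOfTypeI M) ∨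
      ∃ W₁ W₂ S T : Subgroup G, IsSelfNormalizingCyclic W₁ W₂ ∧ IsCoatom S ∧ IsCoatom T ∧
        IsComplIn ⁅S, S⁆ W₁ S ∧ IsComplIn ⁅T, T⁆ W₂ T ∧ S ⊓ T = W₁ ⊔ W₂ ∧
        (IsOfTypeII S ∨ IsOfTypeII T) ∧
        (IsOfTypeII S ∨ IsOfTypeIII S ∨ IsOfTypeIV S ∨ IsOfTypeV S) ∧
        (IsOfTypeII T ∨ IsOfTypeIII T ∨ IsOfTypeIV T ∨ IsOfTypeV T) ∧
        ∀ M : Subgroup G, IsCoatom M → IsOfTypeI M ∨
          ∃ g : G, M = S.map (MulAut.conj g).toMonoidHom ∨ M = T.map (MulAut.conj g).toMonoidHom := by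
  by_cases hall : ∀ M : Subgroup G, IsCoatom M → IsOfTypeI M
  · exact Or.inl hall
  right
  push Not at hall
  obtain ⟨S, hS, hSI⟩ := hall
  obtain ⟨K, U, h, hK⟩ := ((typeI_or_decomp hT hG hS).resolve_left hSI).2
  obtain ⟨T, ⟨hTm, hKst, hKH⟩, -⟩ := Cfsg.Agent.S1366.result hG S hS K U h hK
  have hW1 := kappa_pair hG hS h.hall hK
  have hst : sigmaCore S ⊓ centralizer (K : Set G) ≠ ⊥ :=
    (isSelfNormalizingCyclic_kappa hG hS h.hall hK).2.1
  obtain ⟨⟨U', h'⟩, -⟩ := Cfsg.Agent.S1352.result hG T hTm _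
    ((Cfsg.Agent.S1351.result hG T hTm).2 _ hKH) hKH
  obtain ⟨hU, hconj⟩ := Cfsg.Agent.S1369.result hG S hS K U h hK T hTm hKst hKH
  refine ⟨K, sigmaCore S ⊓ centralizer (K : Set G), S, T,
    isSelfNormalizingCyclic_kappa hG hS h.hall hK, hS, hTm,
    isComplIn_derived_kappa hG hS h hK, isComplIn_derived_kappa hG hTm h' hst,
    (Cfsg.Agent.S1368.result hG S hS K U h hK T hTm hKst hKH).1, ?_,
    typeP_kind hG hS h hK, typeP_kind hG hTm h' hst, fun M hM => ?_⟩
  · exact hU.imp (fun hU1 => (typeII_iff hG hS h).2 ⟨hK, hU1⟩)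
      fun hU1 => (typeII_iff hG hTm h').2 ⟨hst, hU1 U' h'⟩
  · by_cases hκ : kappa M = ∅
    · exact Or.inl ((typeI_iff_kappa hT hG hM).2 hκ)
    · exact Or.inr (hconj M hM (Set.nonempty_iff_ne_empty.2 hκ))

section AllI

variable (hall : ∀ M : Subgroup G, IsCoatom M → kappa M = ∅)
include hall

theorem centralizer_le {M : Subgroup G} (hM : IsCoatom M) {x : G} (hx : x ∈ sigmaCore M)
    (hx1 : x ≠ 1) : centralizer ({x} : Set G) ≤ M := by
  by_contra hC
  obtain ⟨N, ⟨hN, -⟩, -, -, -, -, -, hd⟩ := Cfsg.Agent.S1375.result hG M hM x hx hx1 hC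
  obtain ⟨K, U, h⟩ := exists_decomposition hG hN
  obtain ⟨-, ⟨⟨hxN, z, hz, hz1, e⟩, -⟩, hnot⟩ := hd K U h
  exact hnot (inf_centralizer_le hT hG hN (hall N hN) hz hz1
    ⟨hxN, mem_centralizer_singleton_iff.2 e⟩)

theorem isCNGroup : IsCNGroup G := by
  intro g hg
  obtain ⟨M, hM, a, ⟨ha, ha1⟩, r, hr, y, hgy⟩ := (Cfsg.Agent.S1379.result hG).2.1 hall g hg
  have ha1' : a ≠ 1 := ha1
  rw [supportR_eq_bot (centralizer_le hT hG hall hM ha ha1'), mem_bot] at hr
  rw [hr, mul_one] at hgy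
  set N := M.map (MulAut.conj y).toMonoidHom with hNdef
  have hN : IsCoatom N := isCoatom_map_conj hM y
  have hgs : g ∈ sigmaCore N := hgy ▸ mem_sigmaCore_conj hG hM ha y
  have hle : centralizer ({g} : Set G) ≤ sigmaCore N := fun c hc =>
    inf_centralizer_le hT hG hN (hall N hN) hgs hg ⟨centralizer_le hT hG hall hN hgs hg hc, hc⟩
  obtain ⟨K, U, h⟩ := exists_decomposition hG hN
  have hn : Group.IsNilpotent (sigmaCore N) :=
    (fittingHallOf_eq hG hN h (eq_bot_of_kappa_empty h.hall (hall N hN))) ▸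
      fittingHallOf_nilpotent N
  exact Core.isNilpotent_mono hn hle

end AllI

/-- Peterfalvi (12.17): some maximal subgroup is not of Type I. -/
theorem exists_not_typeI : ∃ M : Subgroup G, IsCoatom M ∧ ¬ IsOfTypeI M := by
  by_contra hne
  push Not at hne
  have hall : ∀ M : Subgroup G, IsCoatom M → kappa M = ∅ :=
    fun M hM => (typeI_iff_kappa hT hG hM).1 (hne M hM)
  haveI := hG.2.1
  exact hG.2.2.1 ⟨⟨IsSimpleGroup.comm_iff_isSolvable.2
    (OddLocal.CN.isSolvable_of_isCNGroup _ G rfl hG.1 (isCNGroup hT hG hall))⟩⟩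

end Cfsg.Agent.OddTypeOne
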