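import Cfsg.Agent.OddTypeOne.Basic
import Cfsg.Agent.OddLocal.SupportKappa
import Cfsg.Agent.OddLocal.SupportCount
import Cfsg.Agent.S1375
import Cfsg.Agent.S1376
import Cfsg.Agent.S1432

/-!
# Supporting maximal subgroups (BG Theorem II, Peterfalvi 8.17)
-/

set_option autoImplicit false
set_option linter.unusedSectionVars false

namespace Cfsg.Agent.OddTypeOne

open Subgroup Cfsg
open Cfsg.Agent.OddLocal
open scoped commutatorElement Pointwise

universe u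

variable {G : Type u} [Group G] [Finite G] {M N S T K U D : Subgroup G}

theorem mem_centralizer_self (x : G) : x ∈ centralizer ({x} : Set G) :=
  mem_centralizer_singleton_iff.2 rfl

variable (hT : Tau2Empty G) (hG : IsMinSimpleOddOrder G) (hM : IsCoatom M)

include hG hM

/-- The Frobenius kernel of a fixed point free complement of `M_σ`. -/
theorem frobeniusKernel_eq (he : fittingHallOf M = sigmaCore M) (hD : IsComplIn D (sigmaCore M) M)
    (hfree : ∀ d ∈ D, ∀ x ∈ sigmaCore M, x ≠ 1 → Commute d x → d = 1) :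
    frobeniusKernel (D.subgroupOf M) = ((fittingHall ↥M : Subgroup ↥M) : Set ↥M) := by
  ext x
  have hmemF : x ∈ fittingHall M ↔ (x : G) ∈ sigmaCore M := by
    rw [← he]
    exact ⟨fun hx => mem_map_of_mem _ hx, fun ⟨y, hy, e⟩ => (Subtype.ext e : y = x) ▸ hy⟩
  have hconj : ∀ g : M, x ∈ MulAut.conj g • D.subgroupOf M ↔ (g : G)⁻¹ * x * g ∈ D := fun g => by
    rw [mem_pointwise_smul_iff_inv_smul_mem, mem_subgroupOf, MulAut.smul_def]
    simp [MulAut.conj_inv_apply]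
  simp only [frobeniusKernel, Set.mem_setOf_eq, SetLike.mem_coe, hmemF, hconj]
  constructor
  · rintro (rfl | h)
    · exact one_mem _
    · by_contra hxs
      obtain ⟨s, hs, hd, -⟩ := exists_conj_mem hG hM hD hfree x.2 hxs
      exact h ⟨s, sigmaCore_le M hs⟩ hd
  · intro hx
    refine or_iff_not_imp_left.2 fun hx1 g hg => hx1 (Subtype.ext ?_)
    have h1 : (g : G)⁻¹ * x * g ∈ D ⊓ sigmaCore M := mem_inf.2 ⟨hg, by
      simpa using (mem_normalizer_iff.1 (le_normalizer_sigmaCore M (inv_mem g.2)) (x : G)).1 hx⟩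
    rw [hD.2.2.1, mem_bot] at h1
    show (x : G) = 1
    calc (x : G) = (g : G) * ((g : G)⁻¹ * x * g) * (g : G)⁻¹ := by group
      _ = 1 := by rw [h1]; group

include hT

theorem exists_frobenius (hκ : kappa M = ∅) :
    ∃ E : Subgroup ↥M, IsFrobeniusComplement E ∧
      frobeniusKernel E = ((fittingHall ↥M : Subgroup ↥M) : Set ↥M) := by
  obtain ⟨K, U, h⟩ := exists_decomposition hG hM
  obtain rfl := eq_bot_of_kappa_empty h.hall hκ
  have hfree := free_of_bot hT hG hM h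
  refine ⟨U.subgroupOf M, isFrobeniusComplement_of_fpf hG hM (compl_of_bot hG hM h)
    (U_ne_bot hG hM h) fun e he he1 => ?_,
    frobeniusKernel_eq hG hM (fittingHallOf_eq hG hM h rfl) (compl_of_bot hG hM h) hfree⟩
  exact eq_bot_iff.2 fun x hx => mem_bot.2 (by_contra fun hx1 =>
    he1 (hfree e he x hx.1 hx1 (mem_centralizer_singleton_iff.1 hx.2).symm))

theorem typeA_eq_of_kappa_empty (hκ : kappa M = ∅) {x : G} (hx : x ∈ typeA M) :
    x ∈ sigmaCore M :=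
  mem_sigmaCore_of_tau_empty hG hM hκ (hT M hM hκ) (Or.inl hx)

theorem typeI_or_decomp :
    IsOfTypeI M ∨ (¬ IsOfTypeI M ∧ ∃ K U : Subgroup G, IsSigmaDecomposition M K U ∧ K ≠ ⊥) := by
  obtain ⟨K, U, h⟩ := exists_decomposition hG hM
  by_cases hK : K = ⊥
  · subst hK
    exact Or.inl (typeI_of_bot hT hG hM h)
  · exact Or.inr ⟨fun hI => hK (eq_bot_of_typeI hG hM h hI), K, U, h, hK⟩

omit hT in
/-- Powers of members of `A(M)`. -/
theorem typeA_pow {b a : G} (hb : b ∈ typeA M) (ha : a ∈ zpowers b) (ha1 : a ≠ 1) :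
    a ∈ typeA M := by
  obtain ⟨k, rfl⟩ := ha
  by_cases hI : IsOfTypeI M
  · rw [typeA, if_pos hI] at hb ⊢
    obtain ⟨hbM, -, x, hx, hx1, e⟩ := hb
    exact ⟨zpow_mem hbM k, ha1, x, hx, hx1, (Commute.zpow_left e k).eq⟩
  · rw [typeA, if_neg hI] at hb ⊢
    obtain ⟨hbM, -, x, hx, hx1, e⟩ := hb
    exact ⟨zpow_mem hbM k, ha1, x, hx, hx1, (Commute.zpow_left e k).eq⟩

omit hT in
theorem typeA_subset : typeA M ⊆ (M : Set G) := fun _ ha =>
  typeA0_subset hG hM (typeA_subset_typeA0 hG hM ha)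

/-- BG Theorem II. -/
theorem tame_embedding (X : Set G) (hX : X = typeA M ∨ X = typeA0 M) :
    (∀ x ∈ X, ∀ g : G, g * x * g⁻¹ ∈ X → ∃ m ∈ M, m * x * m⁻¹ = g * x * g⁻¹) ∧
      (∀ x ∈ X, ¬ centralizer ({x} : Set G) ≤ M →
        x ∈ typeA1 M ∧ ∃! L : Subgroup G, IsCoatom L ∧ centralizer ({x} : Set G) ≤ L) ∧
      ∀ x ∈ X, ¬ centralizer ({x} : Set G) ≤ M → ∀ L : Subgroup G, IsCoatom L →
        centralizer ({x} : Set G) ≤ L →
        IsComplIn (fittingHallOf L) (M ⊓ L) L ∧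
        centralizer ({x} : Set G) ≤
          normalizer ((fittingHallOf L ⊓ centralizer ({x} : Set G) : Subgroup G) : Set G) ∧
        IsComplIn (fittingHallOf L ⊓ centralizer ({x} : Set G)) (M ⊓ centralizer ({x} : Set G))
          (centralizer ({x} : Set G)) ∧
        (∀ y ∈ X, (Nat.card (fittingHallOf L)).Coprime
          (Nat.card ↥(M ⊓ centralizer ({y} : Set G)))) ∧
        (x ∈ typeA L ∧ x ∉ typeA1 L) ∧
        (IsOfTypeI L ∨ IsOfTypeII L) ∧
        (IsOfTypeII L → ∃ E : Subgroup ↥M, IsFrobeniusComplement E ∧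
          frobeniusKernel E = ((fittingHall ↥M : Subgroup ↥M) : Set ↥M)) := by
  have hsub : X ⊆ typeA0 M := by
    rcases hX with rfl | rfl
    exacts [typeA_subset_typeA0 hG hM, subset_rfl]
  have hmem : ∀ x ∈ X, ¬ centralizer ({x} : Set G) ≤ M → x ∈ sigmaCore M ∧ x ≠ 1 :=
    fun x hx hC => ⟨mem_sigmaCore_of_centralizer hG hM (hsub hx) hC,
      fun e => one_not_mem_typeA0 hG hM (e ▸ hsub hx)⟩
  refine ⟨fun x hx g hg => typeA0_fusion hG hM (hsub hx) (hsub hg), fun x hx hC => ?_,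
    fun x hx hC L hL hCL => ?_⟩
  · obtain ⟨hxs, hx1⟩ := hmem x hx hC
    obtain ⟨N, hN, hu, -⟩ := Cfsg.Agent.S1375.result hG M hM x hxs hx1 hC
    exact ⟨(typeA1_eq hG hM).symm ▸ ⟨hxs, hx1⟩, N, hN, fun L hL => hu L hL.1 hL.2⟩
  obtain ⟨hxs, hx1⟩ := hmem x hx hC
  obtain ⟨N, -, hu, he, hn, hcC, hcN, hd⟩ := Cfsg.Agent.S1375.result hG M hM x hxs hx1 hC
  obtain rfl := hu L hL hCL
  obtain ⟨K', U', h'⟩ := exists_decomposition hG hL
  obtain ⟨hU', ⟨⟨hxL, z, hz, hz1, hxz⟩, hxD⟩, hxnot⟩ := hd K' U' h'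
  refine ⟨?_, ?_, ?_, fun y hy => ?_, ⟨?_, ?_⟩, ?_, fun hII => ?_⟩
  · rw [← he]; exact isComplIn_symm hcN
  · rw [← he]; exact hn
  · rw [← he]; exact isComplIn_symm hcC
  · rw [← he]
    refine Nat.coprime_of_dvd fun q hq h1 h2 => ?_
    haveI := Fact.mk hq
    have hqL := piNum_sigmaCore L q hq h1
    have hqM : q ∣ Nat.card M := h2.trans (card_dvd_of_le inf_le_left)
    obtain ⟨hκ, hτ⟩ := support_sigma_dvd hG hM hxs hx1 hC hL hCL hqL hqM
    have hys := mem_sigmaCore_of_tau_empty hG hM hκ hτ (hsub hy)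
    have hy1 : y ≠ 1 := fun e => one_not_mem_typeA0 hG hM (e ▸ hsub hy)
    have hqσ : q ∈ sigma M := piNum_sigmaCore M q hq
      (h2.trans (card_dvd_of_le (inf_centralizer_le hT hG hM hκ hys hy1)))
    have hσ : sigma L = sigma M := sigma_eq_of_inter hG hM hL hqσ hqL
    exact hxnot (sigma_elt_mem hG hL hxL fun r hr hd' =>
      hσ ▸ prime_mem_sigma_of_mem hG hM hxs hr hd')
  · by_cases hI : IsOfTypeI L
    · rw [typeA, if_pos hI, ← he]
      exact ⟨hxL, hx1, z, hz, hz1, hxz⟩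
    · rw [typeA, if_neg hI, typeCore_eq hG hL]
      have hK' : K' ≠ ⊥ := fun e => hI (typeI_iff hT hG hL h' |>.2 ⟨e, hU'⟩)
      rw [derived_eq hG hL h' hK']
      exact ⟨hxD, hx1, z, hz, hz1, hxz⟩
  · rw [typeA1_eq hG hL]
    exact fun h => hxnot h.1
  · by_cases hK' : K' = ⊥
    · exact Or.inl ((typeI_iff hT hG hL h').2 ⟨hK', hU'⟩)
    · exact Or.inr ((typeII_iff hG hL h').2 ⟨hK', hU'⟩)
  · have hK' := ((typeII_iff hG hL h').1 hII).1
    obtain ⟨r, hr, hrd⟩ := exists_prime_dvd_of_ne_bot hK'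
    exact exists_frobenius hT hG hM
      (Cfsg.Agent.S1376.result hG M hM x hxs hx1 hC L hL hCL ⟨r, h'.hall.2.1 r hr hrd⟩).1

omit hM

section Pair

variable (hS : IsCoatom S) (hTm : IsCoatom T)
  (hnc : ∀ g : G, T.map (MulAut.conj g).toMonoidHom ≠ S)
include hS hTm hnc

omit hT in
theorem not_mem_both {x : G} (hx : x ∈ sigmaCore S) (hxT : x ∈ sigmaCore T) : x = 1 := by
  by_contra hx1
  obtain ⟨q, hq, hd⟩ := Nat.exists_prime_and_dvd (mt orderOf_eq_one_iff.mp hx1)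
  haveI := Fact.mk hq
  obtain ⟨g, hg⟩ := exists_conj_of_sigma_inter hG hTm hS (prime_mem_sigma_of_mem hG hTm hxT hq hd)
    (prime_mem_sigma_of_mem hG hS hx hq hd)
  exact hnc g hg.symm

/-- Elements of `A₁(S) ∩ A(T)`. -/
theorem centralizer_of_mem {x : G} (hxS : x ∈ typeA1 S) (hxT : x ∈ typeA T) :
    ¬ centralizer ({x} : Set G) ≤ S ∧ centralizer ({x} : Set G) ≤ T := by
  rw [typeA1_eq hG hS] at hxS
  obtain ⟨hxs, hx1⟩ := hxS
  have hx1' : x ≠ 1 := hx1
  have hns : x ∉ sigmaCore T := fun h => hx1' (not_mem_both hG hS hTm hnc hxs h)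
  rcases typeI_or_decomp hT hG hTm with hI | ⟨hI, K, U, h, hK⟩
  · exact absurd (typeA_eq_of_kappa_empty hT hG hTm ((typeI_iff_kappa hT hG hTm).1 hI) hxT) hns
  rw [typeA, if_neg hI, typeCore_eq hG hTm] at hxT
  obtain ⟨hxD, -, y, hy, hy1, hxy⟩ := hxT
  have hσ : ∀ p : ℕ, p.Prime → p ∣ orderOf x → p ∉ sigma T := fun p hp hd hpT => by
    haveI := Fact.mk hp
    obtain ⟨g, hg⟩ := exists_conj_of_sigma_inter hG hTm hS hpT
      (prime_mem_sigma_of_mem hG hS hxs hp hd)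
    exact hnc g hg.symm
  rcases Cfsg.Agent.S1432.result hG T hTm y hy hy1 x
      ⟨commutator_le_self T hxD, mem_centralizer_singleton_iff.2 hxy⟩ hx1' hσ with
    ⟨hκ, -⟩ | ⟨-, -, hC, hu⟩
  · obtain ⟨q, hq, hd⟩ := Nat.exists_prime_and_dvd (mt orderOf_eq_one_iff.mp hx1')
    exact absurd (hκ q hq hd) ((isPiHallOf_derived hG hTm h hK).2.1 q hq
      (hd.trans (Subgroup.orderOf_dvd_natCard _ hxD)))
  · refine ⟨fun hle => hnc 1 ?_, hC⟩
    rw [map_conj_eq_self_of_mem (one_mem _)]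
    exact (hu S hS hle).symm

theorem supports_iff : Supports T S ↔ (typeA1 S ∩ typeA T).Nonempty := by
  constructor
  · rintro ⟨-, x, hx, hC, hCT⟩
    obtain ⟨-, h2, h3⟩ := tame_embedding hT hG hS (typeA0 S) (Or.inr rfl)
    exact ⟨x, (h2 x hx hC).1, (h3 x hx hC T hTm hCT).2.2.2.2.1.1⟩
  · rintro ⟨x, hxS, hxT⟩
    obtain ⟨h1, h2⟩ := centralizer_of_mem hT hG hS hTm hnc hxS hxT
    exact ⟨hTm, x, typeA_subset_typeA0 hG hS (typeA1_subset_typeA hG hS hxS), h1, h2⟩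

end Pair

omit hT in
theorem centralizer_conj_le {x g : G} {L : Subgroup G} (h : centralizer ({x} : Set G) ≤ L) :
    centralizer ({g * x * g⁻¹} : Set G) ≤ L.map (MulAut.conj g).toMonoidHom := by
  intro c hc
  rw [mem_map_conj_iff]
  refine h (mem_centralizer_singleton_iff.2 ?_)
  have e := mem_centralizer_singleton_iff.1 hc
  calc g⁻¹ * c * g * x = g⁻¹ * (c * (g * x * g⁻¹)) * g := by group
    _ = g⁻¹ * (g * x * g⁻¹ * c) * g := by rw [e]
    _ = x * (g⁻¹ * c * g) := by group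

omit hT in
theorem typeA1_conj {g x : G} (hS : IsCoatom S) (hx : x ∈ typeA1 S) :
    g * x * g⁻¹ ∈ typeA1 (S.map (MulAut.conj g).toMonoidHom) := by
  rw [typeA1_eq hG hS] at hx
  rw [typeA1_eq hG (isCoatom_map_conj hS g)]
  exact ⟨mem_sigmaCore_conj hG hS hx.1 g, fun e => hx.2 (conj_eq_one_iff.1 e)⟩

omit hG hT in
theorem nonconj_map (hnc : ∀ g : G, T.map (MulAut.conj g).toMonoidHom ≠ S) (c : G) :
    ∀ g : G, T.map (MulAut.conj g).toMonoidHom ≠ S.map (MulAut.conj c).toMonoidHom := by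
  intro g e
  refine hnc (c⁻¹ * g) ?_
  rw [← map_conj_map_conj, e, map_conj_inv_cancel]

/-- `A₁(S)` and `A(T)` up to conjugacy. -/
theorem exists_conj_of_tilde (hS : IsCoatom S) (hTm : IsCoatom T)
    (hnc : ∀ g : G, T.map (MulAut.conj g).toMonoidHom ≠ S)
    (h : (tildeOf S (typeA1 S) ∩ tildeOf T (typeA T)).Nonempty) :
    ∃ a c : G, a ∈ typeA1 S ∧ c * a * c⁻¹ ∈ typeA T := by
  obtain ⟨z, ⟨a, ha, r, hr, y, hz⟩, b, hb, s, hs, y', hz'⟩ := h
  rw [typeA1_eq hG hS] at ha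
  obtain ⟨has, ha1⟩ := ha
  have ha1' : a ≠ 1 := ha1
  have hb0 := typeA_subset_typeA0 hG hTm hb
  have hbs : b ∉ sigmaCore T := by
    intro hbT
    have h1 : z ∈ tildeOf S ((sigmaCore S : Set G) \ {1}) := ⟨a, ⟨has, ha1⟩, r, hr, y, hz⟩
    have h2 : z ∈ tildeOf T ((sigmaCore T : Set G) \ {1}) :=
      ⟨b, ⟨hbT, fun e => one_not_mem_typeA0 hG hTm ((show b = 1 from e) ▸ hb0)⟩, s, hs, y', hz'⟩
    have := tildeOf_sigma_disjoint hG hS hTm (M' := T) fun g e => hnc g⁻¹ (by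
      rw [e, map_conj_inv_cancel])
    exact (Set.eq_empty_iff_forall_notMem.1 this z) ⟨h1, h2⟩
  have hs1 : s = 1 := by
    rw [supportR_eq_bot (by_contra fun hC => hbs (mem_sigmaCore_of_centralizer hG hTm hb0 hC)),
      mem_bot] at hs
    exact hs
  rw [hz, hs1, mul_one] at hz'
  have hsup := isSupport_supportR hG hS has ha1'
  have hcomm : Commute a r := (mem_centralizer_singleton_iff.mp (hsup.le_centralizer hr)).symm
  have hcop : (orderOf r).Coprime (orderOf a) := Nat.coprime_of_dvd fun q hq h1 h2 =>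
    hsup.prime_not_sigma hG hS has ha1' hr hq h1 (prime_mem_sigma_of_mem hG hS has hq h2)
  obtain ⟨k, hk⟩ := exists_pow_eq_self_of_coprime hcop
  refine ⟨a, y'⁻¹ * y, (typeA1_eq hG hS).symm ▸ ⟨has, ha1⟩,
    typeA_pow hG hTm hb ?_ fun e => ha1' (conj_eq_one_iff.1 e)⟩
  have hb' : b = y'⁻¹ * y * (a * r) * (y'⁻¹ * y)⁻¹ := by
    have h := congrArg (fun t => y'⁻¹ * t * y') hz'
    simpa [mul_assoc] using h.symm
  refine ⟨((orderOf r * k : ℕ) : ℤ), ?_⟩
  simp only [zpow_natCast]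
  rw [hb', conj_pow, pow_mul, hcomm.mul_pow, pow_orderOf_eq_one, mul_one, hk]

/-- Peterfalvi (8.17). -/
theorem supports_facts (hS : IsCoatom S) (hTm : IsCoatom T)
    (hnc : ∀ g : G, T.map (MulAut.conj g).toMonoidHom ≠ S) :
    (Supports T S ↔ (typeA1 S ∩ typeA T).Nonempty) ∧
    (∀ x ∈ typeA1 S ∩ typeA T,
      ¬ centralizer ({x} : Set G) ≤ S ∧ centralizer ({x} : Set G) ≤ T) ∧
    ((∃ g : G, Supports (T.map (MulAut.conj g).toMonoidHom) S) ↔
      (tildeOf S (typeA1 S) ∩ tildeOf T (typeA T)).Nonempty) ∧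
    (tildeOf S (typeA1 S) ∩ tildeOf T (typeA T) = ∅ ∨
      tildeOf T (typeA1 T) ∩ tildeOf S (typeA S) = ∅) := by
  have key : ∀ {S T : Subgroup G}, IsCoatom S → IsCoatom T →
      (∀ g : G, T.map (MulAut.conj g).toMonoidHom ≠ S) →
      (tildeOf S (typeA1 S) ∩ tildeOf T (typeA T)).Nonempty →
      ∃ a c : G, a ∈ typeA1 S ∧ ¬ centralizer ({a} : Set G) ≤ S ∧
        centralizer ({a} : Set G) ≤ T.map (MulAut.conj c).toMonoidHom := by
    intro S T hS hTm hnc h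
    obtain ⟨a, c, ha, hc⟩ := exists_conj_of_tilde hT hG hS hTm hnc h
    obtain ⟨h1, h2⟩ := centralizer_of_mem hT hG (isCoatom_map_conj hS c) hTm (nonconj_map hnc c)
      (typeA1_conj hG hS ha) hc
    refine ⟨a, c⁻¹, ha, fun hle => h1 (centralizer_conj_le hG hle), ?_⟩
    have h3 := centralizer_conj_le hG (g := c⁻¹) h2
    rwa [show c⁻¹ * (c * a * c⁻¹) * c⁻¹⁻¹ = a by group] at h3
  refine ⟨supports_iff hT hG hS hTm hnc,
    fun x hx => centralizer_of_mem hT hG hS hTm hnc hx.1 hx.2, ⟨?_, fun h => ?_⟩, ?_⟩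
  · rintro ⟨g, hg⟩
    have hnc' : ∀ d : G, (T.map (MulAut.conj g).toMonoidHom).map (MulAut.conj d).toMonoidHom ≠ S :=
      fun d => by rw [map_conj_map_conj]; exact hnc _
    obtain ⟨x, hxS, hxT⟩ := (supports_iff hT hG hS (isCoatom_map_conj hTm g) hnc').1 hg
    obtain ⟨-, hC⟩ := centralizer_of_mem hT hG hS (isCoatom_map_conj hTm g) hnc' hxS hxT
    obtain ⟨hC', -⟩ := centralizer_of_mem hT hG hS (isCoatom_map_conj hTm g) hnc' hxS hxT
    have h1 := centralizer_conj_le hG (g := g⁻¹) hC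
    rw [map_conj_inv_cancel] at h1
    have h2 : ¬ centralizer ({g⁻¹ * x * g⁻¹⁻¹} : Set G) ≤ S.map (MulAut.conj g⁻¹).toMonoidHom := by
      intro hle
      have h3 := centralizer_conj_le hG (g := g) hle
      rw [show g * (g⁻¹ * x * g⁻¹⁻¹) * g⁻¹ = x by group, map_conj_map_conj, mul_inv_cancel,
        map_conj_eq_self_of_mem (one_mem _)] at h3
      exact hC' h3
    have hS' := isCoatom_map_conj hS g⁻¹
    have hxS' := typeA1_conj hG (g := g⁻¹) hS hxS
    obtain ⟨-, -, h4⟩ := tame_embedding hT hG hS' (typeA0 _) (Or.inr rfl)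
    have hxT' : g⁻¹ * x * g⁻¹⁻¹ ∈ typeA T := (h4 _ (typeA_subset_typeA0 hG hS'
      (typeA1_subset_typeA hG hS' hxS')) h2 T hTm h1).2.2.2.2.1.1
    exact ⟨x, ⟨x, hxS, 1, one_mem _, 1, by group⟩,
      g⁻¹ * x * g⁻¹⁻¹, hxT', 1, one_mem _, g, by group⟩
  · obtain ⟨a, c, ha, h1, h2⟩ := key hS hTm hnc h
    exact ⟨c, isCoatom_map_conj hTm c, a,
      typeA_subset_typeA0 hG hS (typeA1_subset_typeA hG hS ha), h1, h2⟩
  · by_contra hne
    push Not at hne
    have hnc₂ : ∀ g : G, S.map (MulAut.conj g).toMonoidHom ≠ T := fun g e =>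
      hnc g⁻¹ (by rw [← e, map_conj_inv_cancel])
    have half : ∀ {S T : Subgroup G}, IsCoatom S → IsCoatom T →
        (∀ g : G, T.map (MulAut.conj g).toMonoidHom ≠ S) →
        (tildeOf S (typeA1 S) ∩ tildeOf T (typeA T)).Nonempty →
        kappa S = ∅ ∧ (kappa T).Nonempty := by
      intro S T hS hTm hnc h
      obtain ⟨a₀, c₀, ha₀, hc₀⟩ := exists_conj_of_tilde hT hG hS hTm hnc h
      have hκT : (kappa T).Nonempty := by
        rw [Set.nonempty_iff_ne_empty]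
        intro hκ
        have h1 := typeA_eq_of_kappa_empty hT hG hTm hκ hc₀
        rw [typeA1_eq hG hS] at ha₀
        have h2 := mem_sigmaCore_conj hG hS ha₀.1 c₀
        exact ha₀.2 (conj_eq_one_iff.1
          (not_mem_both hG (isCoatom_map_conj hS c₀) hTm (nonconj_map hnc c₀) h2 h1))
      obtain ⟨a, c, ha, h1, h2⟩ := key hS hTm hnc h
      rw [typeA1_eq hG hS] at ha
      obtain ⟨q, hq⟩ := hκT
      exact ⟨(Cfsg.Agent.S1376.result hG S hS a ha.1 ha.2 h1 _ (isCoatom_map_conj hTm c) h2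
        ⟨q, kappa_subset_map_conj hG hTm c hq⟩).1, ⟨q, hq⟩⟩
    obtain ⟨h1, -⟩ := half hS hTm hnc hne.1
    obtain ⟨-, h2⟩ := half hTm hS hnc₂ hne.2
    exact h2.ne_empty h1

end Cfsg.Agent.OddTypeOne
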